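import Cfsg.Agent.H246.Dl.Defs
import Mathlib.GroupTheory.Nilpotent
import Mathlib.GroupTheory.Sylow
import Mathlib.GroupTheory.SpecificGroups.Alternating

/-!
# The derived length of `p`-subgroups of symmetric groups (task DL-ALT, helper352)
-/

set_option autoImplicit false

namespace Cfsg.Agent.H352.Dl

open Subgroup

/-- If `P' ≤ M` then the derived series of `P` is contained in the shifted derived series of `M`. -/
theorem derived_shift {P : Type*} [Group P] (M : Subgroup P) (hM : commutator P ≤ M) (j : ℕ) :
    derivedSeries P (j + 1) ≤ (derivedSeries M j).map M.subtype := by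
  induction j with
  | zero =>
    have h1 : derivedSeries P (0 + 1) = commutator P := derivedSeries_one P
    rw [h1, derivedSeries_zero, ← MonoidHom.range_eq_map, M.range_subtype]
    exact hM
  | succ j ih =>
    rw [derivedSeries_succ, derivedSeries_succ M j, Subgroup.map_commutator]
    exact Subgroup.commutator_mono ih ih

/-- In a finite `p`-group `derivedSeries P a` is contained in each subgroup of index `p ^ a`. -/
theorem derived_le_of_index {p : ℕ} [hp : Fact p.Prime] (a : ℕ) :
    ∀ {P : Type*} [Group P] [Finite P], IsPGroup p P → ∀ H : Subgroup P, H.index = p ^ a →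
      derivedSeries P a ≤ H := by
  induction a with
  | zero =>
    intro P _ _ _ H hH
    rw [pow_zero, Subgroup.index_eq_one] at hH
    rw [hH]
    exact le_top
  | succ a ih =>
    intro P _ _ hP H hH
    obtain ⟨m, hm⟩ := IsPGroup.iff_card.1 hP
    have hcard := H.card_mul_index
    rw [hH, hm] at hcard
    have hpp := hp.out.pos
    obtain ⟨b, hbm, hb⟩ := (Nat.dvd_prime_pow hp.out).1 (Dvd.intro _ hcard)
    rw [hb, ← pow_add] at hcard
    have hm2 : b + (a + 1) = m := Nat.pow_right_injective hp.out.two_le hcard
    obtain ⟨M, hMc, hHM⟩ := Sylow.exists_subgroup_card_pow_prime_le (G := P) p (n := b) (m := m - 1) (H := H) (by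
      rw [hm]
      exact pow_dvd_pow p (by omega)) hb (by omega)
    have hMi : M.index = p := by
      have h1 := M.card_mul_index
      rw [hMc, hm] at h1
      have h2 : p ^ m = p ^ (m - 1) * p := by
        rw [← pow_succ]
        congr 1
        omega
      rw [h2] at h1
      exact Nat.eq_of_mul_eq_mul_left (pow_pos hpp _) h1
    have hMn : M.Normal := by
      apply Subgroup.normal_of_index_eq_minFac_card
      rw [hMi, hm, hp.out.pow_minFac (by omega)]
    have hcomm : commutator P ≤ M := by
      have h1 : Nat.card (P ⧸ M) = p := hMi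
      have h2 : IsCyclic (P ⧸ M) := isCyclic_of_prime_card h1
      exact Subgroup.Normal.quotient_commutative_iff_commutator_le.1 (IsCyclic.isMulCommutative)
    have hrel : (H.subgroupOf M).index = p ^ a := by
      have h1 := Subgroup.relIndex_mul_index hHM
      rw [hMi, hH, pow_succ] at h1
      exact Nat.eq_of_mul_eq_mul_right hpp h1
    have h1 := ih (hP.to_subgroup M) (H.subgroupOf M) hrel
    refine (derived_shift M hcomm a).trans ?_
    refine (Subgroup.map_mono h1).trans ?_
    rw [Subgroup.subgroupOf_map_subtype]
    exact inf_le_left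

/-- A `p`-group of permutations of `n < p ^ (k + 1)` points has derived length at most `k`. -/
theorem derived_perm {p : ℕ} [hp : Fact p.Prime] {n k : ℕ} (hn : n < p ^ (k + 1))
    (P : Subgroup (Equiv.Perm (Fin n))) (hP : IsPGroup p P) : derivedSeries P k = ⊥ := by
  rw [eq_bot_iff]
  intro g hg
  rw [Subgroup.mem_bot]
  apply Subtype.ext
  apply Equiv.ext
  intro x
  have h0 : (MulAction.stabilizer P x).index ∣ Nat.card P := Subgroup.index_dvd_card _
  obtain ⟨m, hm⟩ := IsPGroup.iff_card.1 hP
  rw [hm] at h0
  obtain ⟨a, -, ha⟩ := (Nat.dvd_prime_pow hp.out).1 h0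
  have h1 : (MulAction.stabilizer P x).index ≤ n := by
    rw [MulAction.index_stabilizer]
    calc (MulAction.orbit P x).ncard ≤ Nat.card (Fin n) := Set.ncard_le_card _
      _ = n := by simp
  have hak : a ≤ k := by
    by_contra hcon
    have h2 : p ^ (k + 1) ≤ p ^ a := Nat.pow_le_pow_right hp.out.pos (by omega)
    omega
  have h2 := derivedSeries_antitone P hak hg
  have h3 := derived_le_of_index a hP _ ha h2
  exact h3

theorem dlLe_alt {p : ℕ} [hp : Fact p.Prime] {n k : ℕ} (hn : n < p ^ (k + 1)) :
    H246.Dl.DlLe p k (alternatingGroup (Fin n)) := by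
  apply H246.Dl.DlLe.of_hom (alternatingGroup (Fin n)).subtype
  · intro g hg _
    exact (alternatingGroup (Fin n)).subtype_injective (by rw [hg, map_one])
  · intro Q hQ
    exact derived_perm hn Q hQ

end Cfsg.Agent.H352.Dl
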